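import Cfsg.Agent.H10.U6T.LData

set_option autoImplicit false
set_option linter.all false

namespace Cfsg.Agent.H10.U6T

open Cfsg.Agent.H35 Cfsg.Spor Cfsg.Agent.H10

theorem ul_lvl1 : allR (fun p => lvlOK t1687_pd ul_lab 0 ul_ws1 637 p) 3510 12 0 = true := by decide +kernel
theorem ul_fix1 : fixOK t1687_pd ul_ws1 [0] = true := by decide +kernel
theorem ul_cnt1 : cntR (fun p => Nat.ble 1 (fld 16 (ul_lab p) 0)) 3510 12 0 = 693 := by decide +kernel
theorem ul_lvl2 : allR (fun p => lvlOK t1687_pd ul_lab 2 ul_ws2 92 p) 3510 12 0 = true := by decide +kernel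
theorem ul_fix2 : fixOK t1687_pd ul_ws2 [0, 637] = true := by decide +kernel
theorem ul_cnt2 : cntR (fun p => Nat.ble 1 (fld 16 (ul_lab p) 2)) 3510 12 0 = 512 := by decide +kernel
theorem ul_lvl3 : allR (fun p => lvlOK t1687_pd ul_lab 4 ul_ws3 155 p) 3510 12 0 = true := by decide +kernel
theorem ul_fix3 : fixOK t1687_pd ul_ws3 [0, 637, 92] = true := by decide +kernel
theorem ul_cnt3 : cntR (fun p => Nat.ble 1 (fld 16 (ul_lab p) 4)) 3510 12 0 = 135 := by decide +kernel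
theorem ul_lvl4 : allR (fun p => lvlOK t1687_pd ul_lab 6 ul_ws4 88 p) 3510 12 0 = true := by decide +kernel
theorem ul_fix4 : fixOK t1687_pd ul_ws4 [0, 637, 92, 155] = true := by decide +kernel
theorem ul_cnt4 : cntR (fun p => Nat.ble 1 (fld 16 (ul_lab p) 6)) 3510 12 0 = 32 := by decide +kernel
theorem ul_lvl5 : allR (fun p => lvlOK t1687_pd ul_lab 8 ul_ws5 16 p) 3510 12 0 = true := by decide +kernel
theorem ul_fix5 : fixOK t1687_pd ul_ws5 [0, 637, 92, 155, 88] = true := by decide +kernel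
theorem ul_cnt5 : cntR (fun p => Nat.ble 1 (fld 16 (ul_lab p) 8)) 3510 12 0 = 3 := by decide +kernel
theorem ul_lvl6 : allR (fun p => lvlOK t1687_pd ul_lab 10 ul_ws6 6 p) 3510 12 0 = true := by decide +kernel
theorem ul_fix6 : fixOK t1687_pd ul_ws6 [0, 637, 92, 155, 88, 16] = true := by decide +kernel
theorem ul_cnt6 : cntR (fun p => Nat.ble 1 (fld 16 (ul_lab p) 10)) 3510 12 0 = 2 := by decide +kernel
/-- the word of the ninth generator of the subgroup -/
def ul_w5 : List Fi22.Gen := [.a, .b, .c, .d, .e, .h, .a, .b, .c, .d, .e, .h, .a, .b, .c, .d, .e, .h, .a, .b, .c, .d, .e, .h, .a, .b, .c, .d, .e, .h]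
def ul_U : List Fi22.Gen := [.h, .a, .b, .c, .d, .e, .h, .a, .b, .c, .d, .e, .h, .a, .b, .c, .d, .e, .h, .a, .b, .c, .d, .e, .h, .a, .b, .c, .d, .e, .h, .i, .d, .c, .e]
theorem ul_U_eq : ul_U = [.h] ++ ul_w5 ++ [.i, .d, .c, .e] := by decide
theorem ul_all : allR (fun p => !(Nat.beq (t1687_pd.cls p) 2) || Nat.ble 1 (fld 16 (ul_lab p) 0)) 3510 12 0 = true := by decide +kernel
theorem ul_ufp : allR (fun p => !(Nat.beq (t1687_pd.cls p) 2) || (Nat.beq p 637 || ul_ws2.any (fun w => !(Nat.beq (t1687_pd.walk w p) p)))) 3510 12 0 = true := by decide +kernel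
theorem ul_inv : allR (fun p => t1687_sw.all (fun w => !(Nat.beq (t1687_pd.cls p) 2) || Nat.beq (t1687_pd.cls (t1687_pd.walk w p)) 2)) 3510 12 0 = true := by decide +kernel
theorem ul_rel1 : allR (fun p => Nat.beq (t1687_pd.walk (.a :: ul_w5) p) (t1687_pd.walk (ul_w5 ++ [.a]) p)) 3510 12 0 = true := by decide +kernel
theorem ul_rel2 : allR (fun p => Nat.beq (t1687_pd.walk ((ul_w5 ++ [.f]) ++ (ul_w5 ++ [.f]) ++ (ul_w5 ++ [.f])) p) p) 3510 12 0 = true := by decide +kernel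
theorem ul_rel3 : allR (fun p => Nat.beq (t1687_pd.walk ([.c, .d, .e, .f, .g, .h, .i] ++ [.c, .d, .e, .f, .g, .h, .i] ++ [.c, .d, .e, .f, .g, .h, .i] ++ [.c, .d, .e, .f, .g, .h, .i] ++ [.c, .d, .e, .f, .g, .h, .i] ++ [.c, .d, .e, .f, .g, .h, .i] ++ [.c, .d, .e, .f, .g, .h, .i] ++ [.c, .d, .e, .f, .g, .h, .i] ++ [.c, .d, .e, .f, .g, .h, .i]) p) p) 3510 12 0 = true := by decide +kernel
theorem ul_rel4 : allR (fun p => Nat.beq (t1687_pd.walk (ul_U ++ ul_U ++ ul_U ++ ul_U ++ ul_U) p) (t1687_pd.walk [.a] p)) 3510 12 0 = true := by decide +kernel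
theorem ul_a_ne : t1687_pd.walk [.a] 1 ≠ 1 := by decide +kernel
theorem ul_sw9 : t1687_sw = [[.a], [.c], [.d], [.e], [.f], [.g], [.h], [.i], ul_w5] := by decide

end Cfsg.Agent.H10.U6T
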