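import Cfsg.Agent.H10.U6T.Vec
import Cfsg.Agent.H10.U6T.LChk

/-!
# The generators of the centraliser act on the 693 points as unitary transvections (helper10; generated)
-/

set_option autoImplicit false
set_option linter.all false

namespace Cfsg.Agent.H10.U6T

open Cfsg.Agent.H35 Cfsg.Spor Cfsg.Agent.H10 Cfsg.Agent.H98

/-- the point of the 3510-point representation of the `i`-th isotropic point -/
def bON (i : ℕ) : ℕ := Nat.land (Nat.shiftRight ul_bOtab (Nat.mul 12 i)) 4095
/-- the index of the isotropic point of a point of the 693-orbit -/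
def bIN (p : ℕ) : ℕ := Nat.land (Nat.shiftRight ul_bItab (Nat.mul 10 p)) 1023

/-- the isotropic vector of the generator -/
def vC : Fin 6 → GF4 := ![GF4.z, GF4.z, GF4.z, GF4.z, GF4.o, GF4.w]
/-- the isotropic vector of the generator -/
def vD : Fin 6 → GF4 := ![GF4.z, GF4.z, GF4.z, GF4.z, GF4.o, GF4.o]
/-- the isotropic vector of the generator -/
def vE : Fin 6 → GF4 := ![GF4.z, GF4.z, GF4.o, GF4.o, GF4.o, GF4.w]
/-- the isotropic vector of the generator -/
def vF : Fin 6 → GF4 := ![GF4.z, GF4.z, GF4.o, GF4.w, GF4.z, GF4.z]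
/-- the isotropic vector of the generator -/
def vG : Fin 6 → GF4 := ![GF4.z, GF4.z, GF4.o, GF4.o, GF4.z, GF4.z]
/-- the isotropic vector of the generator -/
def vH : Fin 6 → GF4 := ![GF4.o, GF4.o, GF4.z, GF4.z, GF4.o, GF4.w]
/-- the isotropic vector of the generator -/
def vI : Fin 6 → GF4 := ![GF4.o, GF4.w, GF4.z, GF4.z, GF4.z, GF4.z]
/-- the isotropic vector of the generator -/
def vW : Fin 6 → GF4 := ![GF4.o, GF4.o, GF4.w, GF4.w, GF4.z, GF4.z]
theorem ul_viso : hh vC vC = 0 ∧ hh vD vD = 0 ∧ hh vE vE = 0 ∧ hh vF vF = 0 ∧ hh vG vG = 0 ∧ hh vH vH = 0 ∧ hh vI vI = 0 ∧ hh vW vW = 0 := by decide +kernel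
theorem ul_B1 : allR (fun i => Nat.ble (Nat.succ (bON i)) 3510 && (Nat.beq (t1687_pd.cls (bON i)) 2 && Nat.beq (bIN (bON i)) i)) 693 10 0 = true := by decide +kernel
theorem ul_B2 : allR (fun p => !(Nat.beq (t1687_pd.cls p) 2) || (Nat.ble (Nat.succ (bIN p)) 693 && Nat.beq (bON (bIN p)) p)) 3510 12 0 = true := by decide +kernel
theorem ul_g0 : allR (fun i => Nat.beq (bIN (t1687_pd.walk [.a] (bON i))) i) 693 10 0 = true := by decide +kernel
theorem ul_gc : allR (fun i => Nat.beq (bIN (t1687_pd.walk [.c] (bON i))) (idxN (tvf vC (vec i)))) 693 10 0 = true := by decide +kernel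
theorem ul_gd : allR (fun i => Nat.beq (bIN (t1687_pd.walk [.d] (bON i))) (idxN (tvf vD (vec i)))) 693 10 0 = true := by decide +kernel
theorem ul_ge : allR (fun i => Nat.beq (bIN (t1687_pd.walk [.e] (bON i))) (idxN (tvf vE (vec i)))) 693 10 0 = true := by decide +kernel
theorem ul_gf : allR (fun i => Nat.beq (bIN (t1687_pd.walk [.f] (bON i))) (idxN (tvf vF (vec i)))) 693 10 0 = true := by decide +kernel
theorem ul_gg : allR (fun i => Nat.beq (bIN (t1687_pd.walk [.g] (bON i))) (idxN (tvf vG (vec i)))) 693 10 0 = true := by decide +kernel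
theorem ul_gh : allR (fun i => Nat.beq (bIN (t1687_pd.walk [.h] (bON i))) (idxN (tvf vH (vec i)))) 693 10 0 = true := by decide +kernel
theorem ul_gi : allR (fun i => Nat.beq (bIN (t1687_pd.walk [.i] (bON i))) (idxN (tvf vI (vec i)))) 693 10 0 = true := by decide +kernel
theorem ul_gw : allR (fun i => Nat.beq (bIN (t1687_pd.walk ul_w5 (bON i))) (idxN (tvf vW (vec i)))) 693 10 0 = true := by decide +kernel
theorem ul_x0 : bIN 637 = 285 := by decide +kernel
theorem ul_wit : hh ![GF4.o, GF4.z, GF4.z, GF4.z, GF4.z, GF4.z] (vec 285) = 1 := by decide +kernel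

end Cfsg.Agent.H10.U6T
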