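import Cfsg.Agent.H10.U6T.LChk

/-!
# Further checks on the 3510-point representation of Fi22 (helper10)
-/

set_option autoImplicit false
set_option linter.all false

namespace Cfsg.Agent.H10.U6T

open Cfsg.Agent.H35 Cfsg.Spor Cfsg.Agent.H10

theorem ul_inv2 : allR (fun p => t1687_sw.all (fun w =>
    !(Nat.beq (t1687_pd.cls (t1687_pd.walk w p)) 2) || Nat.beq (t1687_pd.cls p) 2)) 3510 12 0 = true := by
  decide +kernel

theorem ul_clsb : t1687_pd.cls 637 = 2 ∧ t1687_pd.cls 92 = 2 ∧ t1687_pd.cls 155 = 2 ∧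
    t1687_pd.cls 88 = 2 ∧ t1687_pd.cls 16 = 2 ∧ t1687_pd.cls 6 = 2 := by
  decide +kernel

end Cfsg.Agent.H10.U6T
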