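import Mathlib
import Cfsg.Agent.H10.Cover

/-!
# Identifying a double cover through two permutation actions on the same set (helper10)
-/

set_option autoImplicit false

namespace Cfsg.Agent.H10.U6T

/-- a homomorphism to a symmetric group from an action function -/
def homOfAct {M α : Type*} [Group M] (act : M → α → α) (h1 : ∀ x, act 1 x = x)
    (hm : ∀ g h x, act (g * h) x = act g (act h x)) : M →* Equiv.Perm α where
  toFun g := ⟨act g, act g⁻¹, fun x => by rw [← hm, inv_mul_cancel, h1],
    fun x => by rw [← hm, mul_inv_cancel, h1]⟩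
  map_one' := Equiv.ext h1
  map_mul' g h := Equiv.ext (hm g h)

theorem homOfAct_apply {M α : Type*} [Group M] (act : M → α → α) (h1 : ∀ x, act 1 x = x)
    (hm : ∀ g h x, act (g * h) x = act g (act h x)) (g : M) (x : α) :
    homOfAct act h1 hm g x = act g x := rfl

/-- a transitive permutation group whose point stabiliser has a single fixed point has trivial
centre -/
theorem center_eq_bot_of_ufp {α : Type*} (P : Subgroup (Equiv.Perm α)) (x0 : α)
    (htr : ∀ x, ∃ g ∈ P, g x0 = x)
    (hufp : ∀ x, x ≠ x0 → ∃ g ∈ P, g x0 = x0 ∧ g x ≠ x) : Subgroup.center P = ⊥ := by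
  rw [Subgroup.eq_bot_iff_forall]
  intro z hz
  rw [Subgroup.mem_center_iff] at hz
  have hz' : ∀ g ∈ P, ∀ x, z.1 (g x) = g (z.1 x) := by
    intro g hg x
    have h1 := hz ⟨g, hg⟩
    have h2 := congrArg (fun t : P => t.1 x) h1
    exact h2.symm
  have h0 : z.1 x0 = x0 := by
    by_contra hne
    obtain ⟨g, hg, hg0, hgx⟩ := hufp _ hne
    apply hgx
    rw [← hz' g hg, hg0]
  apply Subtype.ext
  apply Equiv.ext
  intro x
  obtain ⟨g, hg, rfl⟩ := htr x
  show z.1 (g x0) = g x0
  rw [hz' g hg, h0]

/-- an isomorphism carries the centre into the centre -/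
theorem center_eq_bot_of_equiv {A B : Type*} [Group A] [Group B] (e : A ≃* B)
    (hB : Subgroup.center B = ⊥) : Subgroup.center A = ⊥ := by
  rw [Subgroup.eq_bot_iff_forall]
  intro z hz
  rw [Subgroup.mem_center_iff] at hz
  have h1 : e z ∈ Subgroup.center B := by
    rw [Subgroup.mem_center_iff]
    intro y
    have := hz (e.symm y)
    have h2 := congrArg e this
    rw [map_mul, map_mul, e.apply_symm_apply] at h2
    exact h2
  rw [hB, Subgroup.mem_bot] at h1
  exact e.map_eq_one_iff.mp h1

/-- the criterion: `H` and `M` act on the same set, the image of `H` lies in the image of `M`,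
the centre of `M` acts trivially, and the orders fit. -/
theorem cover_of_perm {H M α : Type*} [Group H] [Group M] [Finite H] [Finite M]
    (π : H →* Equiv.Perm α) (ρ : M →* Equiv.Perm α)
    (hle : π.range ≤ ρ.range)
    (hcz : Subgroup.center M ≤ ρ.ker)
    (N : ℕ) (hN : 0 < N)
    (hM : Nat.card M = Nat.card (Subgroup.center M) * N)
    (hH : Nat.card H = 2 * N)
    (hk : Nat.card π.ker ≤ 2)
    (hcen : Subgroup.center π.range = ⊥)
    (hperf : ∀ L : Subgroup H, L.index ≠ 2) :
    Cfsg.IsNonsplitDoubleCover H (M ⧸ Subgroup.center M) := by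
  have hZpos : 0 < Nat.card (Subgroup.center M) := Nat.card_pos
  have hkpos : 0 < Nat.card π.ker := Nat.card_pos
  -- the order of the image of `H`
  have h1 : Nat.card π.ker * Nat.card π.range = 2 * N := by
    rw [← Subgroup.index_ker, Subgroup.card_mul_index, hH]
  have h2 : N ≤ Nat.card π.range := by
    by_contra hlt
    have hlt := Nat.lt_of_not_le hlt
    have : Nat.card π.ker * Nat.card π.range < 2 * N := by
      calc Nat.card π.ker * Nat.card π.range ≤ 2 * Nat.card π.range :=
            Nat.mul_le_mul_right _ hk
        _ < 2 * N := by omega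
    omega
  -- the order of the image of `M`
  have h3 : Nat.card ρ.ker * Nat.card ρ.range = Nat.card (Subgroup.center M) * N := by
    rw [← Subgroup.index_ker, Subgroup.card_mul_index, hM]
  have h4 : Nat.card (Subgroup.center M) ≤ Nat.card ρ.ker := Subgroup.card_le_of_le hcz
  have h5 : Nat.card ρ.range ≤ N := by
    by_contra hlt
    have hlt := Nat.lt_of_not_le hlt
    have : Nat.card (Subgroup.center M) * N < Nat.card ρ.ker * Nat.card ρ.range := by
      calc Nat.card (Subgroup.center M) * N < Nat.card (Subgroup.center M) * Nat.card ρ.range :=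
            Nat.mul_lt_mul_of_pos_left hlt hZpos
        _ ≤ Nat.card ρ.ker * Nat.card ρ.range := Nat.mul_le_mul_right _ h4
    omega
  have hfr : Finite ρ.range := Finite.of_surjective ρ.rangeRestrict ρ.rangeRestrict_surjective
  have heq : π.range = ρ.range := Subgroup.eq_of_le_of_card_ge hle (h5.trans h2)
  have h6 : Nat.card ρ.range = N := by
    have h2' : N ≤ Nat.card ρ.range := heq ▸ h2
    omega
  have h7 : Nat.card ρ.ker = Nat.card (Subgroup.center M) := by
    rw [h6] at h3
    exact Nat.eq_of_mul_eq_mul_right hN h3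
  have hker : ρ.ker = Subgroup.center M :=
    (Subgroup.eq_of_le_of_card_ge hcz (le_of_eq h7)).symm
  -- the isomorphism of `M` modulo its centre with the image of `H`
  let e : (M ⧸ Subgroup.center M) ≃* π.range :=
    ((QuotientGroup.quotientMulEquivOfEq hker).symm.trans
      (QuotientGroup.quotientKerEquivRange ρ)).trans (MulEquiv.subgroupCongr heq.symm)
  let ψ : H →* M ⧸ Subgroup.center M := e.symm.toMonoidHom.comp π.rangeRestrict
  have hs : Function.Surjective ψ := by
    show Function.Surjective (e.symm ∘ π.rangeRestrict)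
    exact e.symm.surjective.comp π.rangeRestrict_surjective
  have hcard : Nat.card H = 2 * Nat.card (M ⧸ Subgroup.center M) := by
    have h8 := Subgroup.card_eq_card_quotient_mul_card_subgroup (Subgroup.center M)
    rw [hM] at h8
    have h9 : Nat.card (M ⧸ Subgroup.center M) = N := by
      have : Nat.card (Subgroup.center M) * N =
          Nat.card (Subgroup.center M) * Nat.card (M ⧸ Subgroup.center M) := by
        rw [h8, mul_comm]
      exact (Nat.eq_of_mul_eq_mul_left hZpos this).symm
    rw [hH, h9]
  exact Cfsg.Agent.H10.nonsplitDoubleCover_of ψ hs (center_eq_bot_of_equiv e hcen) hcard hperf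

end Cfsg.Agent.H10.U6T
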