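import Cfsg.Agent.H10.U6T.Vec

/-!
# The action of `SU₆(𝔽₄)` on the 693 isotropic points: the homomorphism (helper10)
-/

set_option autoImplicit false

namespace Cfsg.Agent.H10.U6T

open Cfsg Cfsg.Agent.H98 Cfsg.Agent.H35 Matrix

theorem eta6 (u : Fin 6 → GF4) : u = ![u 0, u 1, u 2, u 3, u 4, u 5] := by
  ext j; fin_cases j <;> rfl

theorem herm_eq (u v : Fin 6 → GF4) : hermForm 6 GF4 2 u v = hh u v := by
  simp only [hermForm, Fin.sum_univ_six, pow_two, hh]

theorem gf4_neg (x : GF4) : -x = x := rfl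

theorem gf4_add_self (x : GF4) : x + x = 0 := GF4.add_self' x

theorem gf4_sq_one : ∀ x : GF4, x * x = 1 → x = 1 := by decide

theorem lead_ne {u : Fin 6 → GF4} (hu : u ≠ 0) : lead u ≠ 0 := by
  intro h
  apply hu
  have h' : lead ![u 0, u 1, u 2, u 3, u 4, u 5] = GF4.z := by rw [← eta6 u]; exact h
  obtain ⟨h0, h1, h2, h3, h4, h5⟩ := v_lead _ _ _ _ _ _ h'
  funext j
  fin_cases j
  · exact h0
  · exact h1
  · exact h2
  · exact h3
  · exact h4
  · exact h5

theorem idx_smul (l : GF4) (hl : l ≠ 0) (u : Fin 6 → GF4) : idxN (l • u) = idxN u := by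
  have h := v_smul l (u 0) (u 1) (u 2) (u 3) (u 4) (u 5) hl
  rw [← eta6 u] at h
  have e : (l • u) = fun j => GF4.mul l (u j) := rfl
  unfold idxN
  rw [e, h]

theorem idx_nrm (u : Fin 6 → GF4) (hu : u ≠ 0) (hi : hh u u = 0) :
    idxN u < 693 ∧ vec (idxN u) = nrm u := by
  have h := v_nrm (u 0) (u 1) (u 2) (u 3) (u 4) (u 5)
  rw [← eta6 u] at h
  obtain ⟨h1, h2⟩ := h (lead_ne hu) hi
  exact ⟨h1, funext h2⟩

theorem vec_idx (i : ℕ) (hi : i < 693) : idxN (vec i) = i :=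
  Nat.eq_of_beq_eq_true (allR_all _ 693 10 (by norm_num) v_idx i hi)

theorem lead_zero : lead (0 : Fin 6 → GF4) = GF4.z := rfl

theorem vec_iso (i : ℕ) (hi : i < 693) : vec i ≠ 0 ∧ hh (vec i) (vec i) = 0 := by
  have h2 := of_decide_eq_true (allR_all _ 693 10 (by norm_num) v_iso i hi)
  refine ⟨?_, h2.2⟩
  intro h0
  apply h2.1
  rw [h0]
  exact lead_zero

/-- the matrix of an element -/
abbrev mat (g : SU 6 GF4 2) : Matrix (Fin 6) (Fin 6) GF4 := g.1.1

theorem mat_mul (g h : SU 6 GF4 2) : mat (g * h) = mat g * mat h := rfl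

theorem mat_one : mat (1 : SU 6 GF4 2) = 1 := rfl

theorem mat_pres (g : SU 6 GF4 2) (u v : Fin 6 → GF4) :
    hh (mat g *ᵥ u) (mat g *ᵥ v) = hh u v := by
  rw [← herm_eq, ← herm_eq]
  exact (H7.mem_SU_iff 6 2 g.1).mp g.2 u v

theorem mat_ne (g : SU 6 GF4 2) {u : Fin 6 → GF4} (hu : u ≠ 0) : mat g *ᵥ u ≠ 0 := by
  intro h
  apply hu
  have h1 : mat g⁻¹ *ᵥ (mat g *ᵥ u) = u := by
    rw [Matrix.mulVec_mulVec, ← mat_mul, inv_mul_cancel, mat_one, Matrix.one_mulVec]
  rw [← h1, h, Matrix.mulVec_zero]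

/-- the action on the indices of the isotropic points -/
def sact (g : SU 6 GF4 2) (i : Fin 693) : Fin 693 :=
  ⟨idxN (mat g *ᵥ vec i.val) % 693, Nat.mod_lt _ (by norm_num)⟩

theorem sact_one (i : Fin 693) : sact 1 i = i := by
  apply Fin.ext
  show idxN (mat 1 *ᵥ vec i.val) % 693 = i.val
  rw [mat_one, Matrix.one_mulVec, vec_idx _ i.isLt, Nat.mod_eq_of_lt i.isLt]

theorem nrm_eq (u : Fin 6 → GF4) : nrm u = (lead u)⁻¹ • u := rfl

theorem sact_mul (g h : SU 6 GF4 2) (i : Fin 693) : sact (g * h) i = sact g (sact h i) := by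
  apply Fin.ext
  show idxN (mat (g * h) *ᵥ vec i.val) % 693 =
    idxN (mat g *ᵥ vec (idxN (mat h *ᵥ vec i.val) % 693)) % 693
  obtain ⟨hne, hiso⟩ := vec_iso i.val i.isLt
  have hune : mat h *ᵥ vec i.val ≠ 0 := mat_ne h hne
  have huiso : hh (mat h *ᵥ vec i.val) (mat h *ᵥ vec i.val) = 0 := by rw [mat_pres]; exact hiso
  obtain ⟨hlt, hv⟩ := idx_nrm _ hune huiso
  rw [Nat.mod_eq_of_lt hlt, hv, mat_mul, ← Matrix.mulVec_mulVec, nrm_eq, Matrix.mulVec_smul,
    idx_smul _ (inv_ne_zero (lead_ne hune))]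

/-- the permutation representation of `SU₆(𝔽₄)` on the isotropic points -/
def srep : SU 6 GF4 2 →* Equiv.Perm (Fin 693) := homOfAct sact sact_one sact_mul

theorem srep_apply (g : SU 6 GF4 2) (i : Fin 693) : srep g i = sact g i := rfl

/-- the transvection matrix of a vector -/
noncomputable def Mt (v : Fin 6 → GF4) : Matrix (Fin 6) (Fin 6) GF4 := H7.hermRefl 2 v 1

theorem Mt_mulVec (v x : Fin 6 → GF4) : Mt v *ᵥ x = tvf v x := by
  rw [Mt, H7.hermRefl_mulVec]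
  funext j
  simp only [Pi.sub_apply, Pi.smul_apply, smul_eq_mul, one_mul, tvf, H7.hermI, Fin.sum_univ_six,
    pow_two, hh, sub_eq_add_neg, gf4_neg]

theorem tvf_tvf (v x : Fin 6 → GF4) (hv : hh v v = 0) : tvf v (tvf v x) = x := by
  funext j
  have h1 : hh (tvf v x) v = hh x v := by
    have : hh (tvf v x) v = hh x v + hh x v * hh v v := by
      simp only [hh, tvf]; ring
    rw [this, hv, mul_zero, add_zero]
  show tvf v x j + hh (tvf v x) v * v j = x j
  rw [h1]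
  show x j + hh x v * v j + hh x v * v j = x j
  rw [add_assoc, gf4_add_self, add_zero]

theorem Mt_sq (v : Fin 6 → GF4) (hv : hh v v = 0) : Mt v * Mt v = 1 := by
  apply Matrix.mulVec_injective
  funext x
  rw [← Matrix.mulVec_mulVec, Mt_mulVec, Mt_mulVec, tvf_tvf v x hv, Matrix.one_mulVec]

theorem Mt_det (v : Fin 6 → GF4) (hv : hh v v = 0) : (Mt v).det = 1 := by
  have h := congrArg Matrix.det (Mt_sq v hv)
  rw [Matrix.det_mul, Matrix.det_one] at h
  exact gf4_sq_one _ h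

/-- the transvection of an isotropic vector, in the special linear group -/
noncomputable def tvSL (v : Fin 6 → GF4) (hv : hh v v = 0) :
    Matrix.SpecialLinearGroup (Fin 6) GF4 := ⟨Mt v, Mt_det v hv⟩

theorem tvSL_mem (v : Fin 6 → GF4) (hv : hh v v = 0) : tvSL v hv ∈ SU 6 GF4 2 := by
  rw [H7.mem_SU_iff]
  intro x y
  have hF : Fintype.card GF4 = 2 ^ 2 := rfl
  have hl : (1 : GF4) + 1 ^ 2 = 1 ^ (2 + 1) * H7.hermI (Fin 6) GF4 2 v v := by
    have e : H7.hermI (Fin 6) GF4 2 v v = hh v v := herm_eq v v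
    rw [e, hv, one_pow, mul_zero, gf4_add_self]
  exact H7.hermRefl_preserves hF v 1 hl x y

/-- the transvection of an isotropic vector -/
noncomputable def tv (v : Fin 6 → GF4) (hv : hh v v = 0) : SU 6 GF4 2 :=
  ⟨tvSL v hv, tvSL_mem v hv⟩

theorem mat_tv (v : Fin 6 → GF4) (hv : hh v v = 0) : mat (tv v hv) = Mt v := rfl

theorem sact_tv (v : Fin 6 → GF4) (hv : hh v v = 0) (i : Fin 693) :
    (sact (tv v hv) i).val = idxN (tvf v (vec i.val)) % 693 := by
  show idxN (mat (tv v hv) *ᵥ vec i.val) % 693 = _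
  rw [mat_tv, Mt_mulVec]

/-- a central element fixes the point of an isotropic vector -/
theorem center_fix (z : SU 6 GF4 2) (hz : z ∈ Subgroup.center (SU 6 GF4 2))
    (v w0 : Fin 6 → GF4) (hv : hh v v = 0) (hvne : v ≠ 0) (hw : hh w0 v = 1) :
    idxN (mat z *ᵥ v) = idxN v := by
  have hc : mat z * Mt v = Mt v * mat z := by
    have h1 := Subgroup.mem_center_iff.mp hz (tv v hv)
    have h2 := congrArg mat h1
    rw [mat_mul, mat_mul, mat_tv] at h2
    exact h2.symm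
  have h1 : mat z *ᵥ (Mt v *ᵥ w0) = Mt v *ᵥ (mat z *ᵥ w0) := by
    rw [Matrix.mulVec_mulVec, Matrix.mulVec_mulVec, hc]
  rw [Mt_mulVec, Mt_mulVec] at h1
  have e1 : tvf v w0 = w0 + v := by
    funext j
    show w0 j + hh w0 v * v j = w0 j + v j
    rw [hw, one_mul]
  have e2 : tvf v (mat z *ᵥ w0) = mat z *ᵥ w0 + hh (mat z *ᵥ w0) v • v := rfl
  rw [e1, Matrix.mulVec_add, e2] at h1
  have h3 : mat z *ᵥ v = hh (mat z *ᵥ w0) v • v := add_left_cancel h1
  have hne : hh (mat z *ᵥ w0) v ≠ 0 := by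
    intro h0
    rw [h0, zero_smul] at h3
    exact mat_ne z hvne h3
  rw [h3, idx_smul _ hne]

theorem card_SU6 : Nat.card (SU 6 GF4 2) = 27590492160 := by
  have hF : Fintype.card GF4 = 2 ^ 2 := rfl
  have h1 := H7.card_SU_mul hF 6 (by norm_num)
  rw [H7.card_GU hF 6] at h1
  have h2 : (2 : ℕ) ^ (6 * (6 - 1) / 2) * ∏ i ∈ Finset.range 6,
      (if Even i then 2 ^ (i + 1) + 1 else 2 ^ (i + 1) - 1) = 3 * 27590492160 := by decide
  omega

theorem card_center_SU6 : Nat.card (Subgroup.center (SU 6 GF4 2)) = 3 := by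
  have hF : Fintype.card GF4 = 2 ^ 2 := rfl
  rw [H7.card_center_SU hF 6 (by norm_num)]
  rfl

end Cfsg.Agent.H10.U6T
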