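import Cfsg.Agent.H10.U6T.Act
import Cfsg.Agent.H10.U6T.Extra
import Cfsg.Agent.H10.U6T.SUact
import Cfsg.Agent.H10.Fi22T.Main
import Cfsg.Agent.H35.T1687.PAll
import Cfsg.Agent.H35.T1687.RAll

/-!
# The centraliser of a 3-transposition of the presented Fi22 is `2.U₆(2)` (helper10)

The subgroup `⟨a, c, d, e, f, g, h, i, (abcdeh)^5⟩` is the stabiliser of a point in the
representation on 3510 points; it acts on the 693 fixed points of `a`, which are matched with the
isotropic points of the unitary space of dimension six over the field with four elements, its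
generators acting as transvections.
-/

set_option autoImplicit false

namespace Cfsg.Agent.H10.U6T

open Cfsg Cfsg.Agent.H35 Cfsg.Spor Cfsg.Agent.H10 Cfsg.Agent.H98

/-- the subgroup `⟨a, c, d, e, f, g, h, i, (abcdeh)^5⟩` of the presented Fi22 -/
noncomputable abbrev Ks : Subgroup Fi22 :=
  Subgroup.closure {g | ∃ w ∈ t1687_sw, g = uw fi22_gen w}

theorem u6_hsw : t1687_rsw = t1687_sw := by decide

theorem u6_hyp : TCHyp fi22_gen Ks t1687_pd t1687_rd fi22_rws fi22_prels t1687_sw where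
  UP := fun f hf h1 h2 => fi22_UP f hf h1 h2
  hP := by
    refine ⟨by decide, fi22_gens_all, ?_, t1687_psub⟩
    intro p hp
    have h : (t1687_pd.ptOK fi22_rws fi22_prels p && t1687_pd.orbOK t1687_sw t1687_roots p) = true :=
      t1687_pall p hp
    exact (Bool.and_eq_true_iff.mp h).1
  hy := by
    refine ⟨fi22_inv, fi22_gof_gi, by decide, fun p hp => wrapRow_of_le _ _ p hp, ?_, ?_,
      t1687_h0, by decide⟩
    · exact circTab_valid fi22_gen fi22_inv _ fi22_full_one t1687_circT t1687_ccert t1687_circ_ok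
    · refine hcTab_valid fi22_gen fi22_inv Ks t1687_rsw ?_ t1687_hc1T t1687_hc2T _
        (fun c hc => allR_sound _ _ _ 0 t1687_hc_ok c (Nat.zero_le _) (by omega) hc)
      intro w hw
      rw [u6_hsw] at hw
      exact Subgroup.subset_closure ⟨w, hw, rfl⟩
  hgensR := fi22_gens_all
  hgen := fi22_closure
  hN := by decide
  hNM := by decide
  hNN := rfl
  hchk := t1687_rall
  hH := rfl

/-- the point of an index -/
noncomputable def bO (i : Fin 693) : Fin t1687_pd.N :=
  ⟨bON i.val % 3510, Nat.mod_lt _ (by norm_num)⟩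

/-- the index of a point -/
def bI (p : Fin t1687_pd.N) : Fin 693 := ⟨bIN p.val % 693, Nat.mod_lt _ (by norm_num)⟩

theorem B1 (i : ℕ) (hi : i < 693) :
    bON i < 3510 ∧ t1687_pd.cls (bON i) = 2 ∧ bIN (bON i) = i := by
  have h := allR_all _ 693 10 (by norm_num) ul_B1 i hi
  rw [Bool.and_eq_true, Bool.and_eq_true] at h
  obtain ⟨h1, h2, h3⟩ := h
  exact ⟨Nat.le_of_ble_eq_true h1, Nat.eq_of_beq_eq_true h2, Nat.eq_of_beq_eq_true h3⟩

theorem B2 (p : ℕ) (hp : p < 3510) (hc : t1687_pd.cls p = 2) : bIN p < 693 ∧ bON (bIN p) = p := by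
  have h := allR_all _ 3510 12 (by norm_num) ul_B2 p hp
  rw [Bool.or_eq_true] at h
  rcases h with h | h
  · rw [hc] at h
    exact absurd h (by decide)
  · rw [Bool.and_eq_true] at h
    exact ⟨Nat.le_of_ble_eq_true h.1, Nat.eq_of_beq_eq_true h.2⟩

theorem bI_bO (i : Fin 693) : bI (bO i) = i := by
  obtain ⟨h1, _, h3⟩ := B1 i.val i.isLt
  apply Fin.ext
  show bIN (bON i.val % 3510) % 693 = i.val
  rw [Nat.mod_eq_of_lt h1, h3, Nat.mod_eq_of_lt i.isLt]

theorem cls_bO (i : Fin 693) : t1687_pd.cls (bO i).val = 2 := by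
  obtain ⟨h1, h2, _⟩ := B1 i.val i.isLt
  show t1687_pd.cls (bON i.val % 3510) = 2
  rw [Nat.mod_eq_of_lt h1, h2]

theorem bO_bI (p : Fin t1687_pd.N) (hc : t1687_pd.cls p.val = 2) : bO (bI p) = p := by
  obtain ⟨h1, h2⟩ := B2 p.val p.isLt hc
  apply Fin.ext
  show bON (bIN p.val % 693) % 3510 = p.val
  rw [Nat.mod_eq_of_lt h1, h2]
  exact Nat.mod_eq_of_lt p.isLt

theorem sub_pow_eq_one {G : Type*} [Group G] (S : Subgroup G) (x : S) (n : ℕ)
    (h : x.1 ^ n = 1) : x ^ n = 1 :=
  Subtype.ext (by rw [Subgroup.coe_pow]; exact h)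

end Cfsg.Agent.H10.U6T
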