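import Cfsg.Agent.H98.U32
import Cfsg.Agent.H7.Unitary
import Cfsg.Agent.H7.SUCenter
import Cfsg.Agent.H35.TCBase
import Cfsg.Agent.H10.U6T.Tab
import Cfsg.Agent.H10.U6T.Gen

/-!
# The action of `SU₆(𝔽₄)` on the 693 isotropic points (helper10)
-/

set_option autoImplicit false

namespace Cfsg.Agent.H10.U6T

open Cfsg Cfsg.Agent.H98 Cfsg.Agent.H35 Matrix

/-- decoding two bits -/
def ofN (n : ℕ) : GF4 :=
  bif Nat.testBit n 0 then (bif Nat.testBit n 1 then GF4.v else GF4.o)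
  else (bif Nat.testBit n 1 then GF4.w else GF4.z)

/-- encoding as two bits -/
def toN : GF4 → ℕ
  | .z => 0
  | .o => 1
  | .w => 2
  | .v => 3

/-- the code of the `i`-th normalised isotropic vector -/
def vecN (i : ℕ) : ℕ := Nat.land (Nat.shiftRight ul_vtab (Nat.mul 12 i)) 4095

/-- the `i`-th normalised isotropic vector -/
def vec (i : ℕ) : Fin 6 → GF4 := fun j => ofN (Nat.shiftRight (vecN i) (Nat.mul 2 j.val))

/-- the first non-zero of two -/
def pick : GF4 → GF4 → GF4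
  | .z, y => y
  | x, _ => x

/-- the first non-zero coordinate -/
def lead (u : Fin 6 → GF4) : GF4 :=
  pick (u 0) (pick (u 1) (pick (u 2) (pick (u 3) (pick (u 4) (u 5)))))

/-- the vector scaled to first non-zero coordinate one -/
def nrm (u : Fin 6 → GF4) : Fin 6 → GF4 := fun j => GF4.mul (GF4.inv (lead u)) (u j)

/-- the code of a vector -/
def code (u : Fin 6 → GF4) : ℕ :=
  toN (u 0) + 4 * toN (u 1) + 16 * toN (u 2) + 64 * toN (u 3) + 256 * toN (u 4) + 1024 * toN (u 5)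

/-- the index of the point spanned by a vector -/
def idxN (u : Fin 6 → GF4) : ℕ :=
  Nat.land (Nat.shiftRight ul_itab (Nat.mul 10 (code (nrm u)))) 1023

/-- the Hermitian form, written out -/
def hh (u v : Fin 6 → GF4) : GF4 :=
  u 0 * (v 0 * v 0) + u 1 * (v 1 * v 1) + u 2 * (v 2 * v 2) + u 3 * (v 3 * v 3) +
    u 4 * (v 4 * v 4) + u 5 * (v 5 * v 5)

/-- the transvection of an isotropic vector, as a function -/
def tvf (v u : Fin 6 → GF4) : Fin 6 → GF4 := fun j => u j + hh u v * v j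

theorem v_idx : allR (fun i => Nat.beq (idxN (vec i)) i) 693 10 0 = true := by decide +kernel

theorem v_iso : allR (fun i => decide (lead (vec i) ≠ GF4.z ∧ hh (vec i) (vec i) = GF4.z)) 693 10 0
    = true := by decide +kernel

set_option maxRecDepth 100000 in
theorem v_nrm : ∀ a0 a1 a2 a3 a4 a5 : GF4, lead ![a0, a1, a2, a3, a4, a5] ≠ GF4.z →
    hh ![a0, a1, a2, a3, a4, a5] ![a0, a1, a2, a3, a4, a5] = GF4.z →
    idxN ![a0, a1, a2, a3, a4, a5] < 693 ∧
      ∀ j : Fin 6, vec (idxN ![a0, a1, a2, a3, a4, a5]) j = nrm ![a0, a1, a2, a3, a4, a5] j := by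
  decide +kernel

set_option maxRecDepth 100000 in
theorem v_smul : ∀ l a0 a1 a2 a3 a4 a5 : GF4, l ≠ GF4.z →
    code (nrm (fun j => GF4.mul l (![a0, a1, a2, a3, a4, a5] j))) =
      code (nrm ![a0, a1, a2, a3, a4, a5]) := by
  decide +kernel

set_option maxRecDepth 100000 in
theorem v_lead : ∀ a0 a1 a2 a3 a4 a5 : GF4, lead ![a0, a1, a2, a3, a4, a5] = GF4.z →
    a0 = GF4.z ∧ a1 = GF4.z ∧ a2 = GF4.z ∧ a3 = GF4.z ∧ a4 = GF4.z ∧ a5 = GF4.z := by
  decide +kernel

end Cfsg.Agent.H10.U6T
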